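import Cfsg.Agent.CosetCert.J1Ab25080.Main
import Cfsg.Agent.CosetCert.M11Ab720.Main
import Cfsg.Agent.CosetCert.Chain

/-!
# Two small presentations: upper bounds on the orders
-/

set_option autoImplicit false

namespace Cfsg.Agent.ONPerm

open Cfsg.Agent.CosetCert

/-- The product of the values of the letters of a word without inverses. -/
def evalWord {G : Type*} [Monoid G] (f : Fin 2 → G) (l : List (Fin 2 × Bool)) : G :=
  (l.map fun a => f a.1).prod

theorem lift_mk_eq {G : Type*} [Group G] (f : Fin 2 → G) :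
    ∀ l : List (Fin 2 × Bool), (∀ a ∈ l, a.2 = true) →
      FreeGroup.lift f (FreeGroup.mk l) = evalWord f l := by
  intro l
  induction l with
  | nil => intro _; rfl
  | cons a l ih =>
    intro h
    obtain ⟨x, b⟩ := a
    obtain rfl : b = true := h _ (List.mem_cons_self ..)
    have e : FreeGroup.mk ((x, true) :: l) = FreeGroup.of x * FreeGroup.mk l := by
      rw [FreeGroup.of, FreeGroup.mul_mk]; rfl
    rw [e, map_mul, FreeGroup.lift_apply_of, ih fun a ha => h a (List.mem_cons_of_mem _ ha)]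
    rfl

theorem lift_eq_one {G : Type*} [Group G] (f : Fin 2 → G) (RL : List (List (Fin 2 × Bool)))
    (hpos : RL.all (fun l => l.all fun a => a.2) = true)
    (h : ∀ l ∈ RL, evalWord f l = 1) : ∀ r ∈ wordRels RL, FreeGroup.lift f r = 1 := by
  intro r hr
  obtain ⟨l, hl, rfl⟩ := List.mem_map.1 hr
  rw [lift_mk_eq f l fun a ha => List.all_eq_true.1 (List.all_eq_true.1 hpos l hl) a ha]
  exact h l hl

theorem card_le_of_index {RL : List (List (Fin 2 × Bool))} {n m : Nat} (hm : 0 < m)
    (hn : (Data.sub (wordRels RL) [FreeGroup.of 0 * FreeGroup.of 1]).index ≠ 0 ∧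
      (Data.sub (wordRels RL) [FreeGroup.of 0 * FreeGroup.of 1]).index ≤ n)
    (hrel : (List.replicate m ([((0 : Fin 2), true), (1, true)])).flatten ∈ RL) :
    Finite (PresentedGroup (wordRels RL)) ∧ Nat.card (PresentedGroup (wordRels RL)) ≤ n * m := by
  let g : PresentedGroup (wordRels RL) :=
    PresentedGroup.mk (wordRels RL) (FreeGroup.of 0 * FreeGroup.of 1)
  have hg : g ^ m = 1 := by
    rw [← map_pow]
    refine PresentedGroup.one_of_mem (List.mem_map.2 ⟨_, hrel, ?_⟩)
    have : ∀ k, (FreeGroup.of (0 : Fin 2) * FreeGroup.of 1) ^ k =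
        FreeGroup.mk (List.replicate k [((0 : Fin 2), true), (1, true)]).flatten := by
      intro k
      induction k with
      | zero => rfl
      | succ k ih => rw [pow_succ', ih, FreeGroup.of, FreeGroup.of, FreeGroup.mul_mk, FreeGroup.mul_mk]; rfl
    exact (this m).symm
  have hsub : Data.sub (wordRels RL) [FreeGroup.of 0 * FreeGroup.of 1] ≤ Subgroup.zpowers g := by
    rw [Data.sub, Subgroup.map_le_iff_le_comap, Subgroup.closure_le]
    intro s hs
    obtain rfl : s = _ := List.mem_singleton.1 hs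
    exact Subgroup.mem_zpowers g
  have hfo : IsOfFinOrder g := isOfFinOrder_iff_pow_eq_one.2 ⟨m, hm, hg⟩
  have : Finite (Subgroup.zpowers g) := hfo.finite_zpowers.to_subtype
  have hz : Nat.card (Subgroup.zpowers g) ≤ m := by
    rw [Nat.card_zpowers]; exact Nat.le_of_dvd hm (orderOf_dvd_of_pow_eq_one hg)
  have hidx : (Subgroup.zpowers g).index ≠ 0 := fun h0 =>
    hn.1 (Nat.eq_zero_of_zero_dvd (h0 ▸ Subgroup.index_dvd_of_le hsub))
  have hi : (Subgroup.zpowers g).index ≤ n :=
    le_trans (Nat.le_of_dvd (Nat.pos_of_ne_zero hn.1) (Subgroup.index_dvd_of_le hsub)) hn.2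
  have hcard : Nat.card (PresentedGroup (wordRels RL)) =
      Nat.card (Subgroup.zpowers g) * (Subgroup.zpowers g).index :=
    (Subgroup.card_mul_index _).symm
  have hpos : 0 < Nat.card (Subgroup.zpowers g) := Nat.card_pos
  refine ⟨(Nat.card_ne_zero.1 (hcard ▸ Nat.mul_ne_zero hpos.ne' hidx)).2, ?_⟩
  rw [hcard, mul_comm]
  exact Nat.mul_le_mul hi hz

end Cfsg.Agent.ONPerm
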