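import Cfsg.Agent.ONPerm.Bound
import Cfsg.Agent.Compute.Mathieu

/-!
# The presentation of the Mathieu group M11
-/

set_option autoImplicit false
set_option maxRecDepth 100000

namespace Cfsg.Agent.ONPerm

open Cfsg.Agent.CosetCert Cfsg.Agent.Compute

/-- The relators. -/
abbrev relsM : List (List (Fin 2 × Bool)) := M11Ab720.relWords

/-- The generators as words in the generators of the stabiliser chain. -/
def mGen : Fin 2 → List ℕ := ![[0, 3], [2, 3, 3]]

/-- The generators of the chain as words in the generators. -/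
def mBack : List (List (Fin 2)) := [[0, 1, 0, 1, 1, 0, 1, 1, 1, 0, 1, 0, 1, 1, 0, 1, 1], [0, 1, 0, 1, 0, 1, 0, 1, 1, 0, 1, 1, 1, 0, 1, 0, 1, 0, 1, 0, 1, 0, 1, 0, 1, 0], [0, 1, 0, 1, 1, 1, 0, 1], [1, 1, 0, 1, 0, 1, 1, 1, 0, 1, 0, 1, 0, 1, 1, 1, 0], [1, 1, 0, 1, 0, 1, 0, 1, 1, 0, 1, 0, 1, 0, 1, 0, 1, 1, 0, 1, 1]]

/-- The code of a generator of the chain. -/
noncomputable def chainGen (i : ℕ) : ℕ := (topGens m12Chain.tail).getD i rep24.one

/-- The code of a word in the generators of the chain. -/
noncomputable def codeWord (w : List ℕ) : ℕ :=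
  List.rec (motive := fun _ => ℕ) rep24.one (fun i _ r => rep24.mul (chainGen i) r) w

theorem tg_ok : ((List.range 5).all fun i => rep24.okb (chainGen i)) = true ∧
    (topGens m12Chain.tail).length = 5 := by decide +kernel

theorem chainGen_ok (i : ℕ) : rep24.Ok (chainGen i) := by
  by_cases hi : i < 5
  · exact rep24.okb_sound _ (List.all_eq_true.1 tg_ok.1 i (List.mem_range.2 hi))
  · rw [chainGen, List.getD_eq_default _ _ (by rw [tg_ok.2]; omega)]; exact rep24.ok_one

/-- The element of a word. -/
noncomputable def wordP (w : List ℕ) : Equiv.Perm GolayPt :=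
  (w.map fun i => rep24.den (chainGen i)).prod

theorem codeWord_spec : ∀ w : List ℕ,
    rep24.Ok (codeWord w) ∧ rep24.den (codeWord w) = wordP w
  | [] => ⟨rep24.ok_one, rep24.den_one⟩
  | i :: w => by
    obtain ⟨h1, h2⟩ := codeWord_spec w
    refine ⟨rep24.ok_mul _ _ (chainGen_ok i) h1, ?_⟩
    show rep24.den (rep24.mul (chainGen i) (codeWord w)) = _
    rw [rep24.den_mul _ _ (chainGen_ok i) h1, h2]
    simp [wordP]

theorem wordP_eq_of_check {u v : List ℕ} (h : Nat.beq (codeWord u) (codeWord v) = true) :
    wordP u = wordP v := by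
  rw [← (codeWord_spec u).2, ← (codeWord_spec v).2, Nat.eq_of_beq_eq_true h]

theorem wordP_flat (l : List (List ℕ)) : wordP l.flatten = (l.map wordP).prod := by
  induction l with
  | nil => rfl
  | cons u l ih =>
    rw [List.flatten_cons, List.map_cons, List.prod_cons, ← ih]
    simp only [wordP, List.map_append, List.prod_append]

theorem wordP_mem (w : List ℕ) : wordP w ∈ Spor.M11 := by
  rw [m11_eq]
  refine list_prod_mem fun x hx => ?_
  obtain ⟨i, -, rfl⟩ := List.mem_map.1 hx
  by_cases hi : i < (topGens m12Chain.tail).length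
  · rw [chainGen, List.getD_eq_getElem _ _ hi]
    exact rep24.den_mem_span (List.getElem_mem hi)
  · rw [chainGen, List.getD_eq_default _ _ (by omega), rep24.den_one]
    exact one_mem _

theorem relM_check : (relsM.all fun l =>
    Nat.beq (codeWord ((l.map fun a => mGen a.1).flatten)) (codeWord [])) = true := by
  decide +kernel

theorem backM_check : ((List.range 5).all fun k =>
    Nat.beq (codeWord ((mBack.getD k []).map mGen).flatten) (codeWord [k])) = true := by
  decide +kernel

theorem posM_check : relsM.all (fun l => l.all fun a => a.2) = true := by decide +kernel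

theorem simple_card_M : IsSimpleGroup (PresentedGroup (wordRels relsM)) ∧
    Nat.card (PresentedGroup (wordRels relsM)) = 7920 := by
  obtain ⟨hfin, hle⟩ := card_le_of_index (m := 11) (by norm_num) M11Ab720.index_bound
    (by decide +kernel)
  let f : Fin 2 → Spor.M11 := fun i => ⟨wordP (mGen i), wordP_mem _⟩
  have hr : ∀ r ∈ wordRels relsM, FreeGroup.lift f r = 1 := by
    refine lift_eq_one f _ posM_check fun l hl => Subtype.ext ?_
    have h := wordP_eq_of_check (List.all_eq_true.1 relM_check l hl)
    rw [wordP_flat, List.map_map] at h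
    simp only [evalWord, SubmonoidClass.coe_list_prod, List.map_map]
    exact h.trans rfl
  let ψ := PresentedGroup.toGroup hr
  have hmem : ∀ w : List (Fin 2), ((w.map mGen).map wordP).prod ∈ ψ.range.map Spor.M11.subtype := by
    intro w
    induction w with
    | nil => exact one_mem _
    | cons i w ih =>
      rw [List.map_cons, List.map_cons, List.prod_cons]
      exact Subgroup.mul_mem _
        ⟨ψ (PresentedGroup.of i), ⟨_, rfl⟩,
          congrArg Subtype.val (PresentedGroup.toGroup.of hr)⟩ ih
  have hsurj : Function.Surjective ψ := by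
    have hle' : rep24.chainGroup m12Chain.tail ≤ ψ.range.map Spor.M11.subtype := by
      rw [Rep.chainGroup, Rep.span, Subgroup.closure_le]
      rintro _ ⟨g, hg, rfl⟩
      obtain ⟨k, hk, rfl⟩ := List.getElem_of_mem (show g ∈ topGens m12Chain.tail from hg)
      have h := wordP_eq_of_check
        (List.all_eq_true.1 backM_check k (List.mem_range.2 (tg_ok.2 ▸ hk)))
      rw [wordP_flat] at h
      have h2 : wordP [k] = rep24.den ((topGens m12Chain.tail)[k]) := by
        simp [wordP, chainGen, List.getD_eq_getElem?_getD, List.getElem?_eq_getElem hk]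
      rw [SetLike.mem_coe, ← h2, ← h]
      exact hmem _
    intro x
    rw [← m11_eq] at hle'
    obtain ⟨y, ⟨p, rfl⟩, hy⟩ := hle' x.2
    exact ⟨p, Subtype.ext hy⟩
  have hcard : Nat.card (PresentedGroup (wordRels relsM)) = Nat.card Spor.M11 :=
    le_antisymm (hle.trans card_m11.ge) (Nat.card_le_card_of_surjective ψ hsurj)
  let e : PresentedGroup (wordRels relsM) ≃* Spor.M11 :=
    MulEquiv.ofBijective ψ ((Nat.bijective_iff_surjective_and_card _).2 ⟨hsurj, hcard⟩)
  exact ⟨(MulEquiv.isSimpleGroup_congr e).2 isSimpleGroup_m11, hcard.trans card_m11⟩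

end Cfsg.Agent.ONPerm
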