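import Cfsg.Agent.ONPerm.Bound
import Cfsg.Agent.JankoOne.Simple

/-!
# The presentation of the Janko group J1
-/

set_option autoImplicit false
set_option maxRecDepth 100000

namespace Cfsg.Agent.ONPerm

open Cfsg.Agent.CosetCert Cfsg.Agent.JankoOne

/-- The relators. -/
abbrev relsJ : List (List (Fin 2 × Bool)) := J1Ab25080.relWords

/-- The generators as words in the two matrices. -/
def jGen : Fin 2 → List ℕ := ![[0, 1, 1, 1, 1, 0, 1], [1, 0, 1, 0, 0, 0, 1, 1, 0]]

/-- The matrices as words in the generators. -/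
def jBack : List (List (Fin 2)) := [[0, 1, 1, 0, 1, 0, 1, 0, 1, 1, 0, 1, 0, 1, 0, 1, 1, 0, 1, 0, 1, 1, 0, 1, 0, 1, 1, 0, 1, 0, 1, 0, 1, 1], [1, 1, 0, 1, 0, 1, 0, 1, 1, 0, 1, 0, 1, 1, 0, 1, 0, 1, 1, 0, 1, 0, 1, 0, 1, 1, 0, 1, 1, 0, 1, 0, 1, 0, 1, 1, 0, 1, 0, 1, 0, 1, 1, 0]]

theorem wordG_append (u v : List ℕ) : wordG (u ++ v) = wordG u * wordG v := by
  induction u with
  | nil => simp [wordG]
  | cons i u ih => simp only [List.cons_append, wordG, ih, mul_assoc]

theorem wordG_flat (l : List (List ℕ)) : wordG l.flatten = (l.map wordG).prod := by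
  induction l with
  | nil => rfl
  | cons u l ih => rw [List.flatten_cons, wordG_append, ih, List.map_cons, List.prod_cons]

theorem wordG_eq_of_check {u v : List ℕ} (h : (wordM u).beq (wordM v) = true) :
    wordG u = wordG v :=
  j1_ext (by rw [← (wordG_den u).2, ← (wordG_den v).2, M7.eq_of_beq h])

theorem rel_check : (relsJ.all fun l =>
    (wordM ((l.map fun a => jGen a.1).flatten)).beq (wordM [])) = true := by decide +kernel

theorem back_check : (wordM ((jBack.getD 0 []).map jGen).flatten).beq (wordM [0]) = true ∧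
    (wordM ((jBack.getD 1 []).map jGen).flatten).beq (wordM [1]) = true := by decide +kernel

theorem pos_check : relsJ.all (fun l => l.all fun a => a.2) = true := by decide +kernel

theorem simple_card_J : IsSimpleGroup (PresentedGroup (wordRels relsJ)) ∧
    Nat.card (PresentedGroup (wordRels relsJ)) = 175560 := by
  obtain ⟨hfin, hle⟩ := card_le_of_index (m := 7) (by norm_num) J1Ab25080.index_bound
    (by decide +kernel)
  let f : Fin 2 → Spor.J1 := fun i => wordG (jGen i)
  have hr : ∀ r ∈ wordRels relsJ, FreeGroup.lift f r = 1 := by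
    refine lift_eq_one f _ pos_check fun l hl => ?_
    have h := wordG_eq_of_check (List.all_eq_true.1 rel_check l hl)
    rw [wordG_flat, List.map_map] at h
    exact h.trans rfl
  let ψ := PresentedGroup.toGroup hr
  have hmem : ∀ w : List (Fin 2), ((w.map jGen).map wordG).prod ∈ ψ.range := by
    intro w
    induction w with
    | nil => exact one_mem _
    | cons i w ih =>
      rw [List.map_cons, List.map_cons, List.prod_cons]
      exact Subgroup.mul_mem _ ⟨PresentedGroup.of i, PresentedGroup.toGroup.of hr⟩ ih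
  have hgen : wordG [0] ∈ ψ.range ∧ wordG [1] ∈ ψ.range := by
    constructor
    · rw [← wordG_eq_of_check back_check.1, wordG_flat]; exact hmem _
    · rw [← wordG_eq_of_check back_check.2, wordG_flat]; exact hmem _
  have hsurj : Function.Surjective ψ := by
    intro x
    have hclos : x.1 ∈ (ψ.range.map Spor.J1.subtype) := by
      refine (Subgroup.closure_le _).2 ?_ x.2
      rintro _ (rfl | rfl)
      · exact ⟨_, hgen.1, by simp [wordG]⟩
      · exact ⟨_, hgen.2, by simp [wordG]⟩
    obtain ⟨y, ⟨p, rfl⟩, hy⟩ := hclos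
    exact ⟨p, Subtype.ext hy⟩
  have hcard : Nat.card (PresentedGroup (wordRels relsJ)) = Nat.card Spor.J1 :=
    le_antisymm (hle.trans card_J1.ge) (Nat.card_le_card_of_surjective ψ hsurj)
  let e : PresentedGroup (wordRels relsJ) ≃* Spor.J1 :=
    MulEquiv.ofBijective ψ ((Nat.bijective_iff_surjective_and_card _).2 ⟨hsurj, hcard⟩)
  exact ⟨(MulEquiv.isSimpleGroup_congr e).2 isSimple_J1, hcard.trans card_J1⟩

end Cfsg.Agent.ONPerm
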