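import Cfsg.Agent.CosetCert.BaseFix
import Cfsg.Agent.CosetCert.ONOrder.Main
import Cfsg.Agent.ONPerm.SubJ1
import Cfsg.Agent.ONPerm.SubEleven
import Cfsg.Prelude.Def_Sporadic

/-!
# The O'Nan group on 122760 points, with J1 and M11 inside
-/

set_option autoImplicit false
set_option maxRecDepth 100000

namespace Cfsg.Agent.ONPerm

open Cfsg.Agent.CosetCert

/-- The letters of a list of numbers. -/
def onWord (w : List Nat) : List (Spor.ON.Gen × Bool) := w.map ONIndex122760.dec

/-- Generators for J1 inside. -/
def jIn : Fin 2 → List Nat :=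
  ![[4,3,0,4,5,2,3,4,3,1,2,1,2,1,3,4,3,2,5,4,7,3,4], [2,3]]

/-- Generators for M11 inside. -/
def mIn : Fin 2 → List Nat :=
  ![[5,4,2,3,4,2,7,5,2,3,4,3,2,1,2,3,4,3,2,5,0,2,4,3,2,4,5], [0,1]]

/-- A word over the two generators, as letters. -/
def inWord (v : Fin 2 → List Nat) (l : List (Fin 2 × Bool)) : List (Spor.ON.Gen × Bool) :=
  (l.map fun a => onWord (v a.1)).flatten

/-- Its trace check at the base points. -/
noncomputable def inCheck (v : Fin 2 → List Nat) (l : List (Fin 2 × Bool)) : Bool :=
  (((inWord v l).map (Data.code ONIndex122760.data.iv ONIndex122760.enc)).all fun x =>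
      Nat.blt x ONIndex122760.data.K) &&
    (ONOrder.levels.map Data.Level.base).all fun b => Nat.beq (ONIndex122760.data.fwd
      ((inWord v l).map (Data.code ONIndex122760.data.iv ONIndex122760.enc)) b) b

theorem in_checks : (J1Ab25080.relWords.all (inCheck jIn)) = true ∧
    (M11Ab720.relWords.all (inCheck mIn)) = true ∧
    ((List.range 8).any fun c => !(Nat.beq (ONIndex122760.data.fwd
      ((onWord (jIn 0)).map (Data.code ONIndex122760.data.iv ONIndex122760.enc)) c) c)) = true ∧
    ((List.range 8).any fun c => !(Nat.beq (ONIndex122760.data.fwd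
      ((onWord (mIn 0)).map (Data.code ONIndex122760.data.iv ONIndex122760.enc)) c) c)) = true := by
  decide +kernel

/-- The element of a word. -/
abbrev onEl (w : List Nat) : Spor.ON :=
  PresentedGroup.mk ONOrder.rels (FreeGroup.mk (onWord w))

theorem evalWord_onEl (v : Fin 2 → List Nat) : ∀ l : List (Fin 2 × Bool),
    evalWord (fun i => onEl (v i)) l = PresentedGroup.mk ONOrder.rels (FreeGroup.mk (inWord v l))
  | [] => rfl
  | a :: l => by
    have ih := evalWord_onEl v l
    simp only [evalWord, inWord, List.map_cons, List.prod_cons, List.flatten_cons] at ih ⊢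
    rw [ih]
    show PresentedGroup.mk _ _ * PresentedGroup.mk _ _ = _
    rw [← map_mul, FreeGroup.mul_mk]

theorem permutation_realization :
    ∃ H : Subgroup (Equiv.Perm (Fin 122760)), Cfsg.IsON H ∧
      MulAction.IsPretransitive H (Fin 122760) ∧
      Nat.card (MulAction.stabilizer H (0 : Fin 122760)) = 3753792 ∧
      (∃ K : Subgroup H, Cfsg.IsJ1 K) ∧ (∃ K : Subgroup H, Cfsg.IsM11 K) := by
  obtain ⟨φ, π, hπ, hfwd⟩ := Data.enumeration ONIndex122760.valid ONIndex122760.spells
  obtain ⟨hsimp, hcard⟩ := ONOrder.order_and_simple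
  have hprod : (ONOrder.levels.map Data.Level.size).prod = 460815505920 := by decide +kernel
  have hinj : Function.Injective φ :=
    (Data.order_eq ONIndex122760.valid ONIndex122760.spells φ hfwd ONOrder.card_bound.1
      ONOrder.card_bound.2 ONOrder.levels ONOrder.levels_ok hprod).1
  let φ' : Spor.ON →* Equiv.Perm (Fin 122760) := φ
  have hinj' : Function.Injective φ' := hinj
  let e : Spor.ON ≃* φ'.range := MonoidHom.ofInjective hinj' 
  have hON : Cfsg.IsON φ'.range :=
    ⟨(MulEquiv.isSimpleGroup_congr e).1 hsimp, by rw [← Nat.card_congr e.toEquiv]; exact hcard⟩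
  have htr : MulAction.IsPretransitive φ'.range (Fin 122760) := ⟨fun x y => by
    obtain ⟨a, ha⟩ := QuotientGroup.mk_surjective (π x)
    obtain ⟨b, hb⟩ := QuotientGroup.mk_surjective (π y)
    refine ⟨⟨φ (b * a⁻¹), ⟨_, rfl⟩⟩, ?_⟩
    show φ (b * a⁻¹) x = y
    apply π.injective
    refine (hπ _ _).trans ?_
    rw [← ha, ← hb]
    show QuotientGroup.mk (b * a⁻¹ * a) = _
    rw [inv_mul_cancel_right]⟩
  refine ⟨φ'.range, hON, htr, ?_, ?_, ?_⟩
  · have h1 : (MulAction.orbit φ'.range (0 : Fin 122760)).ncard = 122760 := by
      rw [MulAction.orbit_eq_univ, Set.ncard_univ, Nat.card_fin]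
    have h2 := Subgroup.card_mul_index (MulAction.stabilizer φ'.range (0 : Fin 122760))
    rw [MulAction.index_stabilizer, h1, hON.2] at h2
    omega
  all_goals
    have key : ∀ (RL : List (List (Fin 2 × Bool))) (v : Fin 2 → List Nat),
        RL.all (fun l => l.all fun a => a.2) = true → RL.all (inCheck v) = true →
        ((List.range 8).any fun c => !(Nat.beq (ONIndex122760.data.fwd
          ((onWord (v 0)).map (Data.code ONIndex122760.data.iv ONIndex122760.enc)) c) c)) = true →
        IsSimpleGroup (PresentedGroup (wordRels RL)) →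
        ∃ K : Subgroup φ'.range, IsSimpleGroup K ∧
          Nat.card K = Nat.card (PresentedGroup (wordRels RL)) := by
      intro RL v hpos hchk hne hs
      let f : Fin 2 → Spor.ON := fun i => onEl (v i)
      have hr : ∀ r ∈ wordRels RL, FreeGroup.lift f r = 1 := by
        refine lift_eq_one f RL hpos fun l hl => ?_
        rw [evalWord_onEl]
        have h := List.all_eq_true.1 hchk l hl
        simp only [inCheck, Bool.and_eq_true] at h
        exact Data.eq_one_of_fixes_bases ONIndex122760.valid ONIndex122760.spells φ hfwd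
          ONOrder.card_bound.1 ONOrder.card_bound.2 (by norm_num) ONOrder.levels ONOrder.levels_ok
          hprod _ h.1 h.2
      let ψ := (e.toMonoidHom).comp (PresentedGroup.toGroup hr)
      have hψ : Function.Injective ψ := by
        rcases ψ.normal_ker.eq_bot_or_eq_top with h | h
        · exact (MonoidHom.ker_eq_bot_iff _).1 h
        · exfalso
          have h0 : ψ (PresentedGroup.of 0) = 1 := MonoidHom.mem_ker.1 (h ▸ Subgroup.mem_top _)
          have h1 : onEl (v 0) = 1 := by
            apply e.injective
            rw [map_one, ← h0]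
            show e (onEl (v 0)) = e (PresentedGroup.toGroup hr (PresentedGroup.of 0))
            rw [PresentedGroup.toGroup.of]
          obtain ⟨c, hc, hcne⟩ := List.any_eq_true.1 hne
          have hc' : c < ONIndex122760.data.n := by
            have := List.mem_range.1 hc
            show c < 122760
            omega
          have h2 := hfwd (onWord (v 0)) ⟨c, hc'⟩
          rw [show PresentedGroup.mk _ (FreeGroup.mk (onWord (v 0))) = (1 : Spor.ON) from h1,
            map_one, inv_one, Equiv.Perm.one_apply] at h2
          simp only [Bool.not_eq_true'] at hcne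
          rw [← show c = _ from h2] at hcne
          simp at hcne
      let eK := MonoidHom.ofInjective hψ
      exact ⟨ψ.range, (MulEquiv.isSimpleGroup_congr eK).1 hs,
        (Nat.card_congr eK.toEquiv).symm⟩
  · obtain ⟨K, h1, h2⟩ := key _ jIn pos_check in_checks.1 in_checks.2.2.1 simple_card_J.1
    exact ⟨K, h1, h2.trans simple_card_J.2⟩
  · obtain ⟨K, h1, h2⟩ := key _ mIn posM_check in_checks.2.1 in_checks.2.2.2 simple_card_M.1
    exact ⟨K, h1, h2.trans simple_card_M.2⟩

end Cfsg.Agent.ONPerm
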